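import Groth.Agent.Lib.TrigSplit28.Key
import Groth.Agent.Lib.UnipConst20.Basic
import Groth.Agent.Lib.FinGrp20.Basic

/-!
# Unipotent by diagonalizable extensions split over an algebraically closed field
-/

set_option autoImplicit false
set_option linter.style.haveILetI false

universe u

open TensorProduct WithConv HopfRep

noncomputable section

namespace Groth.Agent.TrigSplit28

variable {k : Type u} [Field k]

/-- The quotient by a skew primitive element is a quotient by a Hopf ideal. -/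
theorem isHopfIdeal_span_skew {Q : Type u} [CommRing Q] [HopfAlgebra k Q] {χ z : Q} (hχ : IsGroupLikeElem k χ)
    (hz : CoalgebraStruct.comul (R := k) z = χ ⊗ₜ[k] z + z ⊗ₜ[k] 1) : (Ideal.span {z}).IsHopfIdeal k := by
  have hε : CoalgebraStruct.counit (R := k) z = 0 := by
    have h := congrArg (TensorProduct.lid k Q) (Coalgebra.rTensor_counit_comul (R := k) z)
    rw [hz, map_add, map_add, LinearMap.rTensor_tmul, LinearMap.rTensor_tmul, TensorProduct.lid_tmul,
      TensorProduct.lid_tmul, TensorProduct.lid_tmul, hχ.counit_eq_one, one_smul, add_eq_left] at h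
    have h2 := congrArg (CoalgebraStruct.counit (R := k)) h
    rwa [map_smul, Bialgebra.counit_one, smul_eq_mul, mul_one, map_zero] at h2
  have hS : HopfAlgebra.antipode k z = - (HopfAlgebra.antipode k χ * z) := by
    have h := HopfAlgebra.mul_antipode_rTensor_comul_apply (R := k) z
    rw [hz, map_add, map_add, LinearMap.rTensor_tmul, LinearMap.rTensor_tmul, LinearMap.mul'_apply,
      LinearMap.mul'_apply, hε, map_zero, mul_one] at h
    exact eq_neg_of_add_eq_zero_right h
  have hq : Ideal.Quotient.mkₐ k (Ideal.span {z}) z = 0 :=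
    Ideal.Quotient.eq_zero_iff_mem.2 (Ideal.mem_span_singleton_self z)
  refine FinGrp.isHopfIdeal_of_algHom _ (fun x hx => ?_) (fun x hx => ?_) (fun x hx => ?_)
  all_goals obtain ⟨a, rfl⟩ := Ideal.mem_span_singleton'.1 hx
  · rw [Bialgebra.counit_mul, hε, mul_zero]
  · rw [map_mul, map_mul, show Bialgebra.comulAlgHom k Q z = χ ⊗ₜ[k] z + z ⊗ₜ[k] 1 from hz, map_add,
      Algebra.TensorProduct.map_tmul, Algebra.TensorProduct.map_tmul, hq, TensorProduct.tmul_zero,
      TensorProduct.zero_tmul, add_zero, mul_zero]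
  · rw [HopfAlgebra.antipode_mul_distrib, hS, mul_neg, ← mul_assoc]
    exact neg_mem (Ideal.mul_mem_left _ _ (Ideal.mem_span_singleton_self z))

/-- Slices of the comultiplication are compatible with it. -/
theorem comul_slice {Q : Type u} [CommRing Q] [HopfAlgebra k Q] (f : Q →ₗ[k] k) (e : Q) :
    CoalgebraStruct.comul (R := k) (TensorProduct.lid k Q (f.rTensor Q (CoalgebraStruct.comul (R := k) e))) =
      (((TensorProduct.lid k Q).toLinearMap ∘ₗ f.rTensor Q) ∘ₗ CoalgebraStruct.comul (R := k)).rTensor Q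
        (CoalgebraStruct.comul (R := k) e) := by
  have h1 : ∀ w : Q ⊗[k] Q, CoalgebraStruct.comul (R := k) (TensorProduct.lid k Q (f.rTensor Q w)) =
      ((TensorProduct.lid k Q).toLinearMap ∘ₗ f.rTensor Q).rTensor Q
        ((TensorProduct.assoc k Q Q Q).symm ((CoalgebraStruct.comul (R := k)).lTensor Q w)) := by
    intro w
    induction w with
    | zero => simp
    | add p q hp hq => simp only [map_add, hp, hq]
    | tmul p q =>
      rw [LinearMap.rTensor_tmul, TensorProduct.lid_tmul, map_smul, LinearMap.lTensor_tmul]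
      induction CoalgebraStruct.comul (R := k) q with
      | zero => simp
      | add a b ha hb => simp only [map_add, TensorProduct.tmul_add, ← ha, ← hb, smul_add]
      | tmul a b => simp [TensorProduct.smul_tmul']
  rw [h1, Coalgebra.coassoc_symm_apply, ← LinearMap.comp_apply, ← LinearMap.rTensor_comp]

variable {A : Type u} [CommRing A] [HopfAlgebra k A] {M : Type u} [CommGroup M]

/-- An extension of a diagonalizable group by a unipotent one has a section. -/
theorem exists_retraction [IsAlgClosed k] [Algebra.FiniteType k A] (ψ : MonoidAlgebra k M →ₐc[k] A)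
    (hψ : Function.Injective ψ) (J : Ideal A) [J.IsHopfIdeal k]
    (hJ : J = Ideal.map (ψ : MonoidAlgebra k M →+* A) (RingHom.ker (Bialgebra.counitAlgHom k (MonoidAlgebra k M))))
    (hU : IsUnipotent k (A ⧸ J)) :
    ∃ r : A →ₐc[k] MonoidAlgebra k M, r.comp ψ = BialgHom.id k (MonoidAlgebra k M) := by
  classical
  haveI : Group.FG M := fg_of_injective ψ hψ
  haveI : IsNoetherianRing A := Algebra.FiniteType.isNoetherianRing k A
  have hT := Unip23.isTrigonalizable_of_kernel ψ MonoidAlgebra.span_isGroupLikeElem J hJ hU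
  obtain ⟨I, ⟨hIH, hIψ⟩, hmax⟩ := set_has_maximal_iff_noetherian.2 (inferInstance : IsNoetherian A A)
    {I : Ideal A | I.IsHopfIdeal k ∧ ∀ b, ψ b ∈ I → b = 0}
    ⟨RingHom.ker ((BialgHom.id k A : A →ₐc[k] A) : A →ₐ[k] A), HopfFF23.isHopfIdeal_ker _,
      fun b hb => hψ ((show ψ b = 0 from hb).trans (map_zero ψ).symm)⟩
  haveI := hIH
  let π : A →ₐc[k] A ⧸ I := Bialgebra.Quotient.mkBialgHom (R := k) I
  let ι : MonoidAlgebra k M →ₐc[k] A ⧸ I := π.comp ψ
  have hι : Function.Injective ι := by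
    intro a b hab
    refine sub_eq_zero.1 (hIψ (a - b) (Ideal.Quotient.eq_zero_iff_mem.1 ?_))
    rw [map_sub, map_sub, sub_eq_zero]
    exact hab
  haveI : Algebra.FiniteType k (A ⧸ I) :=
    Algebra.FiniteType.of_surjective (Ideal.Quotient.mkₐ k I) Ideal.Quotient.mk_surjective
  suffices hsurj : Function.Surjective ι by
    let e := AlgEquiv.ofBijective (ι : MonoidAlgebra k M →ₐ[k] A ⧸ I) ⟨hι, hsurj⟩
    let r : A →ₐ[k] MonoidAlgebra k M := e.symm.toAlgHom.comp (π : A →ₐ[k] A ⧸ I)
    have hr : ∀ a, ι (r a) = π a := fun a => e.apply_symm_apply (π a)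
    refine ⟨BialgHom.ofAlgHom r (AlgHom.ext fun a => ?_) (AlgHom.ext fun a => ?_), ?_⟩
    · show CoalgebraStruct.counit (R := k) (r a) = CoalgebraStruct.counit (R := k) a
      rw [← CoalgHomClass.counit_comp_apply ι (r a), hr]
      exact CoalgHomClass.counit_comp_apply π a
    · refine TensorProduct.map_injective_of_flat_flat (ι : MonoidAlgebra k M →ₗ[k] A ⧸ I)
        (ι : MonoidAlgebra k M →ₗ[k] A ⧸ I) hι hι ?_
      show TensorProduct.map (ι : MonoidAlgebra k M →ₗ[k] A ⧸ I) (ι : MonoidAlgebra k M →ₗ[k] A ⧸ I)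
          (Algebra.TensorProduct.map r r (CoalgebraStruct.comul (R := k) a)) =
        TensorProduct.map (ι : MonoidAlgebra k M →ₗ[k] A ⧸ I) (ι : MonoidAlgebra k M →ₗ[k] A ⧸ I)
          (CoalgebraStruct.comul (R := k) (r a))
      rw [← map_comul ι, hr, map_comul π]
      induction CoalgebraStruct.comul (R := k) a with
      | zero => simp
      | add p q hp hq => simp only [map_add, hp, hq]
      | tmul p q =>
        show ι (r p) ⊗ₜ[k] ι (r q) = π p ⊗ₜ[k] π q
        rw [hr, hr]
    · refine BialgHom.ext fun b => hι ?_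
      exact hr (ψ b)
  -- otherwise a skew primitive element outside the group algebra enlarges the ideal
  by_contra hns
  obtain ⟨q₀, hq₀⟩ := not_forall.1 hns
  obtain ⟨a₀, rfl⟩ := Ideal.Quotient.mk_surjective q₀
  let W : Submodule k (A ⧸ I) := LinearMap.range (ι : MonoidAlgebra k M →ₗ[k] A ⧸ I)
  obtain ⟨n, F, hF0, -, hsub, hstep, hs⟩ := Unip23.hasFlag_of_isTrigonalizable hT (Set.finite_singleton a₀)
  have ha₀ : a₀ ∈ F n := hs rfl
  obtain ⟨i, e₀, he₀, he₀W, hFi⟩ : ∃ i, ∃ e₀ ∈ F (i + 1), π e₀ ∉ W ∧ ∀ x ∈ F i, π x ∈ W := by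
    by_contra hne
    have key : ∀ i, ∀ x ∈ F i, π x ∈ W := by
      intro i
      induction i with
      | zero => intro x hx; rw [hF0, Submodule.mem_bot] at hx; rw [hx, map_zero]; exact zero_mem _
      | succ i ih =>
        intro x hx
        by_contra hxW
        exact hne ⟨i, x, hx, hxW, ih⟩
    obtain ⟨b, hb⟩ := key n a₀ ha₀
    exact hq₀ ⟨b, hb⟩
  obtain ⟨gA, zA, hzA⟩ := Unip23.exists_groupLike_step hsub hstep he₀ fun h => he₀W (hFi e₀ h)
  obtain ⟨h₀, hh₀⟩ : (gA : A) ∈ (ψ : MonoidAlgebra k M →ₐ[k] A).range := by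
    refine Unip23.mem_range_of_coinvariant ψ J hJ.le ?_
    rw [gA.2.comul_eq_tmul_self, LinearMap.lTensor_tmul]
    congr 1
    exact UnipConst20.eq_one_of_isGroupLikeElem (hD := hU) (hg := gA.2.map (Bialgebra.Quotient.mkBialgHom (R := k) J))
  have hh₀' : ψ h₀ = gA := hh₀
  obtain ⟨mh, rfl⟩ : h₀ ∈ Set.range fun m : M => MonoidAlgebra.single m (1 : k) := by
    refine MonoidAlgebra.isGroupLikeElem_iff_mem_range_single_one.1 ⟨?_, ?_⟩
    · rw [← CoalgHomClass.counit_comp_apply ψ h₀, hh₀']
      exact gA.2.counit_eq_one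
    · refine TensorProduct.map_injective_of_flat_flat (ψ : MonoidAlgebra k M →ₗ[k] A)
        (ψ : MonoidAlgebra k M →ₗ[k] A) hψ hψ ?_
      rw [← map_comul, hh₀', gA.2.comul_eq_tmul_self, TensorProduct.map_tmul]
      show _ = ψ h₀ ⊗ₜ[k] ψ h₀
      rw [hh₀']
  set e := π e₀ with he
  set h := ι (MonoidAlgebra.single mh 1) with hh
  obtain ⟨z, hz⟩ : ∃ z : MonoidAlgebra k M ⊗[k] (A ⧸ I), CoalgebraStruct.comul (R := k) e =
      e ⊗ₜ[k] h + (ι : MonoidAlgebra k M →ₗ[k] A ⧸ I).rTensor (A ⧸ I) z := by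
    have h1 : CoalgebraStruct.comul (R := k) e₀ = e₀ ⊗ₜ[k] (gA : A) + (F i).subtype.rTensor A zA := by
      rw [hzA, add_sub_cancel]
    have h2 : TensorProduct.map (π : A →ₗ[k] A ⧸ I) (π : A →ₗ[k] A ⧸ I) ((F i).subtype.rTensor A zA) ∈
        LinearMap.range ((ι : MonoidAlgebra k M →ₗ[k] A ⧸ I).rTensor (A ⧸ I)) := by
      clear hzA h1
      induction zA with
      | zero => simp
      | add p q hp hq => simp only [map_add]; exact add_mem hp hq
      | tmul p q =>
        obtain ⟨b, hb⟩ := hFi p.1 p.2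
        exact ⟨b ⊗ₜ[k] π q, by rw [LinearMap.rTensor_tmul, hb]; rfl⟩
    obtain ⟨z, hz⟩ := h2
    refine ⟨z, ?_⟩
    rw [he, map_comul π, h1, map_add, TensorProduct.map_tmul, ← hz]
    congr 2
    show π (gA : A) = h
    rw [← hh₀']
    rfl
  obtain ⟨S, hS⟩ := TensorProduct.exists_finset z
  let cf : M → MonoidAlgebra k M →ₗ[k] k := fun g =>
    { toFun := fun x => x.coeff g, map_add' := fun x y => by simp, map_smul' := fun r x => by simp }
  let yg : M → A ⧸ I := fun g => ∑ j ∈ S, cf g j.1 • j.2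
  obtain ⟨g, hg⟩ : ∃ g, yg g ∉ W := by
    by_contra! hall
    have hc := congrArg (TensorProduct.lid k (A ⧸ I)) (Coalgebra.rTensor_counit_comul (R := k) e)
    rw [hz, hS] at hc
    simp only [map_add, map_sum, LinearMap.rTensor_tmul, TensorProduct.lid_tmul, one_smul] at hc
    refine he₀W ?_
    rw [← hc]
    refine add_mem (Submodule.smul_mem _ _ ⟨_, rfl⟩) ?_
    let T : Finset M := S.biUnion fun j => j.1.coeff.support
    have : ∀ j ∈ S, CoalgebraStruct.counit (R := k) ((ι : MonoidAlgebra k M →ₗ[k] A ⧸ I) j.1) =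
        ∑ g ∈ T, cf g j.1 := by
      intro j hj
      rw [show CoalgebraStruct.counit (R := k) ((ι : MonoidAlgebra k M →ₗ[k] A ⧸ I) j.1) =
        CoalgebraStruct.counit (R := k) j.1 from CoalgHomClass.counit_comp_apply ι _]
      show _ = ∑ g ∈ T, j.1.coeff g
      rw [← Finset.sum_subset (Finset.subset_biUnion_of_mem (fun j => j.1.coeff.support) hj)
        (fun g _ hg => Finsupp.notMem_support_iff.1 hg)]
      clear hj
      generalize j.1 = x
      induction x using MonoidAlgebra.induction_linear with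
      | zero => simp
      | add a b ha hb =>
        rw [map_add, ha, hb, MonoidAlgebra.coeff_add]
        exact (Finsupp.sum_add_index' (h := fun _ r => r) (fun _ => rfl) (fun _ _ _ => rfl)).symm
      | single m r =>
        rw [counit_single, MonoidAlgebra.coeff_single]
        exact (Finsupp.sum_single_index (h := fun _ r => r) rfl).symm
    rw [Finset.sum_congr rfl fun j hj => by rw [this j hj, Finset.sum_smul], Finset.sum_comm]
    exact Submodule.sum_mem _ fun g _ => hall g
  obtain ⟨y, hy⟩ : ∃ y, y = yg g := ⟨_, rfl⟩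
  rw [← hy] at hg
  obtain ⟨L, hL⟩ := (ι : MonoidAlgebra k M →ₗ[k] A ⧸ I).exists_leftInverse_of_injective (LinearMap.ker_eq_bot.2 hι)
  let f : (A ⧸ I) →ₗ[k] k := cf g ∘ₗ L
  have hf : ∀ b, f (ι b) = cf g b := fun b => congrArg (cf g) (LinearMap.congr_fun hL b)
  let Sf := ((TensorProduct.lid k (A ⧸ I)).toLinearMap ∘ₗ f.rTensor (A ⧸ I)) ∘ₗ CoalgebraStruct.comul (R := k)
  have hSe : Sf e = f e • h + y := by
    simp only [Sf, LinearMap.comp_apply, LinearEquiv.coe_coe, hz, hS, map_add, map_sum, LinearMap.rTensor_tmul,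
      TensorProduct.lid_tmul]
    rw [hy]
    congr 1
    exact Finset.sum_congr rfl fun j _ => congrArg (· • j.2) (hf j.1)
  have hSι : ∀ b, Sf (ι b) = cf g b • ι (MonoidAlgebra.single g 1) := by
    intro b
    show TensorProduct.lid k _ (f.rTensor _ (CoalgebraStruct.comul (R := k) (ι b))) = _
    rw [map_comul]
    induction b using MonoidAlgebra.induction_linear with
    | zero => simp
    | add a b ha hb => simp only [map_add, ha, hb, add_smul]
    | single m r =>
      rw [show MonoidAlgebra.single m r = r • MonoidAlgebra.single m (1 : k) by simp, map_smul, map_smul, map_smul,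
        map_smul, map_smul, (MonoidAlgebra.isGroupLikeElem_single_one m).comul_eq_tmul_self,
        TensorProduct.map_tmul, LinearMap.rTensor_tmul, TensorProduct.lid_tmul, smul_eq_mul, mul_smul]
      show r • f (ι (MonoidAlgebra.single m 1)) • ι (MonoidAlgebra.single m (1 : k)) = _
      rw [hf]
      congr 1
      by_cases hm : m = g
      · rw [hm]
      · have : cf g (MonoidAlgebra.single m (1 : k)) = 0 := by
          show (MonoidAlgebra.single m (1 : k)).coeff g = 0
          rw [MonoidAlgebra.coeff_single, Finsupp.single_eq_of_ne (Ne.symm hm)]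
        rw [this, zero_smul, zero_smul]
  have hhg : CoalgebraStruct.comul (R := k) h = h ⊗ₜ[k] h :=
    ((MonoidAlgebra.isGroupLikeElem_single_one mh).map ι).comul_eq_tmul_self
  have hΔy : CoalgebraStruct.comul (R := k) y = ι (MonoidAlgebra.single g 1) ⊗ₜ[k] y + y ⊗ₜ[k] h := by
    have h1 : CoalgebraStruct.comul (R := k) (Sf e) = Sf.rTensor (A ⧸ I) (CoalgebraStruct.comul (R := k) e) :=
      comul_slice f e
    rw [hSe, map_add, map_smul, hhg, hz, hS, map_add, map_sum, map_sum, LinearMap.rTensor_tmul, hSe,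
      TensorProduct.add_tmul, ← TensorProduct.smul_tmul', add_assoc, add_right_inj] at h1
    rw [h1, add_comm]
    congr 1
    rw [hy, TensorProduct.tmul_sum]
    refine Finset.sum_congr rfl fun j _ => ?_
    rw [LinearMap.rTensor_tmul, LinearMap.rTensor_tmul]
    show Sf (ι j.1) ⊗ₜ[k] j.2 = _
    rw [hSι, TensorProduct.smul_tmul]
  set h' := ι (MonoidAlgebra.single mh⁻¹ 1) with hh'
  have hhh' : h * h' = 1 := by
    rw [hh, hh', ← map_mul, MonoidAlgebra.single_mul_single, mul_inv_cancel, one_mul, ← MonoidAlgebra.one_def, map_one]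
  set y' := y * h' with hy'
  have hΔy' : CoalgebraStruct.comul (R := k) y' =
      ι (MonoidAlgebra.single (g * mh⁻¹) 1) ⊗ₜ[k] y' + y' ⊗ₜ[k] 1 := by
    rw [hy', Bialgebra.comul_mul, hΔy,
      ((MonoidAlgebra.isGroupLikeElem_single_one mh⁻¹).map ι).comul_eq_tmul_self, ← hh', add_mul,
      Algebra.TensorProduct.tmul_mul_tmul, Algebra.TensorProduct.tmul_mul_tmul, hhh']
    rw [hh', ← map_mul, MonoidAlgebra.single_mul_single, one_mul]
  obtain ⟨c, hc⟩ := exists_coeff ι hι (g * mh⁻¹) y' hΔy'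
  set χ := ι (MonoidAlgebra.single (g * mh⁻¹) 1) with hχ
  have hχg : IsGroupLikeElem k χ := (MonoidAlgebra.isGroupLikeElem_single_one _).map ι
  set w := y' - algebraMap k (A ⧸ I) c * (χ - 1) with hw
  have hΔw : CoalgebraStruct.comul (R := k) w = χ ⊗ₜ[k] w + w ⊗ₜ[k] 1 := by
    rw [hw, ← Algebra.smul_def, map_sub, map_smul, map_sub, hΔy', hχg.comul_eq_tmul_self, Bialgebra.comul_one,
      Algebra.TensorProduct.one_def, TensorProduct.tmul_sub, TensorProduct.sub_tmul, TensorProduct.tmul_smul,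
      ← TensorProduct.smul_tmul', TensorProduct.tmul_sub, TensorProduct.sub_tmul]
    module
  haveI hwH : (Ideal.span {w}).IsHopfIdeal k := isHopfIdeal_span_skew hχg hΔw
  let Φ : A →ₐc[k] (A ⧸ I) ⧸ Ideal.span {w} := (Bialgebra.Quotient.mkBialgHom (R := k) (Ideal.span {w})).comp π
  have hlt : I < RingHom.ker (Φ : A →ₐ[k] (A ⧸ I) ⧸ Ideal.span {w}) := by
    refine lt_of_le_of_ne (fun a ha => ?_) fun heq => ?_
    · show Ideal.Quotient.mk (Ideal.span {w}) (Ideal.Quotient.mk I a) = 0
      rw [Ideal.Quotient.eq_zero_iff_mem.2 ha, map_zero]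
    · obtain ⟨a, ha⟩ := Ideal.Quotient.mk_surjective w
      have ha' : a ∈ RingHom.ker (Φ : A →ₐ[k] (A ⧸ I) ⧸ Ideal.span {w}) := by
        show Ideal.Quotient.mk (Ideal.span {w}) (Ideal.Quotient.mk I a) = 0
        rw [ha]
        exact Ideal.Quotient.eq_zero_iff_mem.2 (Ideal.mem_span_singleton_self w)
      rw [← heq] at ha'
      rw [Ideal.Quotient.eq_zero_iff_mem.2 ha'] at ha
      refine hg ?_
      refine ⟨algebraMap k _ c * (MonoidAlgebra.single (g * mh⁻¹) 1 - 1) * MonoidAlgebra.single mh 1, ?_⟩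
      show ι _ = y
      rw [map_mul, map_mul, map_sub, map_one, AlgHomClass.commutes, ← hh, ← hχ,
        ← (sub_eq_zero.1 ha.symm : y' = _), hy', mul_assoc, mul_comm h' h, hhh', mul_one]
  refine hmax _ ⟨HopfFF23.isHopfIdeal_ker Φ, fun b hb => hc b ?_⟩ hlt
  exact Ideal.Quotient.eq_zero_iff_mem.1 hb

end Groth.Agent.TrigSplit28
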