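import Groth.Agent.Lib.Unip23.Coinv
import Groth.Agent.Lib.HopfFlat20.Main
import Groth.Agent.Lib.MultType.QuasiIso
import Mathlib.RingTheory.Flat.FaithfullyFlat.Algebra
import Mathlib.RingTheory.FiniteType

/-!
# Group algebras inside Hopf algebras: finiteness and skew primitive elements
-/

set_option autoImplicit false
set_option linter.style.haveILetI false

universe u

open TensorProduct WithConv

noncomputable section

namespace Groth.Agent.TrigSplit28

variable {k : Type u} [Field k] {Q : Type u} [CommRing Q] [HopfAlgebra k Q] {M : Type u} [CommGroup M]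

theorem map_comul {C : Type u} [CommRing C] [HopfAlgebra k C] (φ : C →ₐc[k] Q) (b : C) :
    CoalgebraStruct.comul (R := k) (φ b) =
      TensorProduct.map (φ : C →ₗ[k] Q) (φ : C →ₗ[k] Q) (CoalgebraStruct.comul (R := k) b) :=
  (CoalgHomClass.map_comp_comul_apply φ b).symm

theorem isSub_range {C : Type u} [CommRing C] [HopfAlgebra k C] (φ : C →ₐc[k] Q) :
    HopfFlat.IsSub ((φ : C →ₐ[k] Q).range) where
  comul_mem := by
    rintro _ ⟨b, rfl⟩
    refine ⟨TensorProduct.map (φ : C →ₐ[k] Q).rangeRestrict.toLinearMap (φ : C →ₐ[k] Q).rangeRestrict.toLinearMap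
      (CoalgebraStruct.comul (R := k) b), ?_⟩
    rw [← LinearMap.comp_apply, ← TensorProduct.map_comp]
    exact (map_comul φ b).symm
  antipode_mem := by
    rintro _ ⟨b, rfl⟩
    exact ⟨HopfAlgebra.antipode k b, HopfFF23.map_antipode φ b⟩

/-- A group whose algebra is a Hopf subalgebra of a finitely generated one is finitely generated. -/
theorem fg_of_injective [Algebra.FiniteType k Q] (ι : MonoidAlgebra k M →ₐc[k] Q)
    (hι : Function.Injective ι) : Group.FG M := by
  classical
  let P := (ι : MonoidAlgebra k M →ₐ[k] Q).range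
  haveI : Module.FaithfullyFlat P Q := (isSub_range ι).faithfullyFlat
  haveI : IsNoetherianRing Q := Algebra.FiniteType.isNoetherianRing k Q
  haveI : IsNoetherianRing P := by
    have hinj : Function.Injective (fun I : Ideal P => I.map (algebraMap P Q)) := fun I J h => by
      rw [← Ideal.comap_map_eq_self_of_faithfullyFlat (B := Q) I, ← Ideal.comap_map_eq_self_of_faithfullyFlat (B := Q) J]
      exact congrArg _ h
    have hm : Monotone (fun I : Ideal P => I.map (algebraMap P Q)) := fun _ _ h => Ideal.map_mono h
    exact isNoetherianRing_iff.2 (isNoetherian_iff'.2 (StrictMono.wellFoundedGT (hm.strictMono_of_injective hinj)))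
  haveI : IsNoetherianRing (MonoidAlgebra k M) :=
    isNoetherianRing_of_ringEquiv P (AlgEquiv.ofInjective (ι : MonoidAlgebra k M →ₐ[k] Q) hι).symm.toRingEquiv
  let gen : M → MonoidAlgebra k M := fun m => MonoidAlgebra.single m (1 : k) - 1
  obtain ⟨T, hT, hTspan⟩ := (Submodule.fg_span_iff_fg_span_finset_subset (R := MonoidAlgebra k M) _).1
    (IsNoetherian.noetherian (Submodule.span (MonoidAlgebra k M) (Set.range gen)))
  choose! τ hτ using fun t (ht : t ∈ Set.range gen) => ht
  let H : Subgroup M := Subgroup.closure ((T.image τ : Finset M) : Set M)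
  suffices H = ⊤ by exact Group.fg_iff.2 ⟨_, this, (T.image τ).finite_toSet⟩
  rw [eq_top_iff]
  intro m _
  let q := MonoidAlgebra.mapDomainBialgHom k (QuotientGroup.mk' H)
  have hle : Submodule.span (MonoidAlgebra k M) (T : Set (MonoidAlgebra k M)) ≤
      RingHom.ker (q : MonoidAlgebra k M →+* MonoidAlgebra k (M ⧸ H)) := by
    refine Submodule.span_le.2 fun t ht => ?_
    show q t = 0
    rw [← hτ t (hT ht), map_sub, map_one, MonoidAlgebra.mapDomainBialgHom_single,
      show QuotientGroup.mk' H (τ t) = 1 from (QuotientGroup.eq_one_iff _).2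
        (Subgroup.subset_closure (Finset.mem_coe.2 (Finset.mem_image_of_mem _ ht))), ← MonoidAlgebra.one_def, sub_self]
  have hm : q (gen m) = 0 := hle (hTspan ▸ Submodule.subset_span ⟨m, rfl⟩)
  rw [map_sub, map_one, MonoidAlgebra.mapDomainBialgHom_single, sub_eq_zero, MonoidAlgebra.one_def] at hm
  have h2 := congrArg (fun x : MonoidAlgebra k (M ⧸ H) => x.coeff (1 : M ⧸ H)) hm
  simp only [MonoidAlgebra.coeff_single, Finsupp.single_eq_same] at h2
  rw [Finsupp.single_apply] at h2
  split_ifs at h2 with h
  · exact (QuotientGroup.eq_one_iff m).1 h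
  · exact absurd h2 zero_ne_one

theorem counit_single (g : M) (r : k) :
    CoalgebraStruct.counit (R := k) (MonoidAlgebra.single g r) = r := by
  simp

/-- Skew primitive elements of a group algebra. -/
theorem skewPrim_groupAlgebra (g₀ : M) (z : MonoidAlgebra k M)
    (hz : CoalgebraStruct.comul (R := k) z = MonoidAlgebra.single g₀ (1 : k) ⊗ₜ[k] z + z ⊗ₜ[k] 1) :
    ∃ b : k, z = b • (MonoidAlgebra.single g₀ (1 : k) - 1) := by
  classical
  let cf : M → MonoidAlgebra k M →ₗ[k] k := fun g =>
    { toFun := fun x => x.coeff g, map_add' := fun x y => by simp, map_smul' := fun r x => by simp }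
  have hcf : ∀ g h (r : k), cf g (MonoidAlgebra.single h r) = if h = g then r else 0 := fun g h r => by
    show (MonoidAlgebra.single h r).coeff g = _
    rw [MonoidAlgebra.coeff_single, Finsupp.single_apply]
  have hcomul : ∀ (x : MonoidAlgebra k M) (g : M),
      TensorProduct.lid k _ ((cf g).rTensor _ (CoalgebraStruct.comul (R := k) x)) =
        MonoidAlgebra.single g (x.coeff g) := by
    intro x g
    induction x using MonoidAlgebra.induction_linear with
    | zero => simp
    | add a b ha hb => simp only [map_add, ha, hb, MonoidAlgebra.coeff_add, Finsupp.add_apply, MonoidAlgebra.single_add]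
    | single h r =>
      by_cases hh : h = g
      · subst hh; simp [hcf, Finsupp.single_apply]
      · simp [hcf, hh, Finsupp.single_apply]
  have key : ∀ g : M, g ≠ g₀ → g ≠ 1 → z.coeff g = 0 := by
    intro g hg hg1
    have h := hcomul z g
    rw [hz, map_add, map_add, LinearMap.rTensor_tmul, LinearMap.rTensor_tmul, TensorProduct.lid_tmul,
      TensorProduct.lid_tmul, hcf, if_neg (Ne.symm hg), zero_smul, zero_add] at h
    have h2 := congrArg (fun x : MonoidAlgebra k M => x.coeff g) h
    simpa [MonoidAlgebra.one_def, Finsupp.single_apply, Ne.symm hg1] using h2.symm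
  have hε : CoalgebraStruct.counit (R := k) z = 0 := by
    have h := Coalgebra.rTensor_counit_comul (R := k) z
    rw [hz, map_add, LinearMap.rTensor_tmul, LinearMap.rTensor_tmul, counit_single] at h
    have h2 := congrArg (TensorProduct.lid k (MonoidAlgebra k M)) h
    simp only [map_add, TensorProduct.lid_tmul, one_smul, add_eq_left] at h2
    have h3 := congrArg (CoalgebraStruct.counit (R := k)) h2
    rwa [map_smul, Bialgebra.counit_one, smul_eq_mul, mul_one, map_zero] at h3
  refine ⟨if g₀ = 1 then 0 else z.coeff g₀, ?_⟩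
  set b := if g₀ = 1 then 0 else z.coeff g₀ with hb
  have hd : ∀ g : M, g ≠ 1 → (z - b • (MonoidAlgebra.single g₀ (1 : k) - 1)).coeff g = 0 := by
    intro g hg1
    by_cases hg : g = g₀
    · subst hg
      simp [hb, hg1, MonoidAlgebra.one_def, Finsupp.single_apply, Ne.symm hg1]
    · simp [key g hg hg1, MonoidAlgebra.one_def, Finsupp.single_apply, Ne.symm hg, Ne.symm hg1]
  set d := z - b • (MonoidAlgebra.single g₀ (1 : k) - 1) with hdef
  have hdε : CoalgebraStruct.counit (R := k) d = 0 := by
    rw [hdef, map_sub, hε, map_smul, map_sub, counit_single, Bialgebra.counit_one, sub_self, smul_zero, sub_zero]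
  have hd1 : d = MonoidAlgebra.single 1 (d.coeff 1) := by
    ext g
    by_cases hg : g = 1
    · subst hg; simp
    · simp [hd g hg, Finsupp.single_apply, Ne.symm hg]
  rw [hd1, counit_single] at hdε
  rw [hdε, MonoidAlgebra.single_zero, hdef, sub_eq_zero] at hd1
  exact hd1

/-- An additive polynomial from its vanishing binomial coefficients. -/
theorem additive_of_choose {n : ℕ} (a : ℕ → k) (h0 : a 0 = 0)
    (h : ∀ i ≤ n, ∀ j, 0 < j → j < i → a i * (i.choose j : k) = 0) {S : Type*} [CommRing S] [Algebra k S] (x y : S) :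
    ∑ i ∈ Finset.range (n + 1), a i • (x + y) ^ i =
      ∑ i ∈ Finset.range (n + 1), a i • x ^ i + ∑ i ∈ Finset.range (n + 1), a i • y ^ i := by
  rw [← Finset.sum_add_distrib]
  refine Finset.sum_congr rfl fun i hi => ?_
  rcases Nat.eq_zero_or_pos i with rfl | hi0
  · simp [h0]
  rw [add_pow, Finset.smul_sum, ← Finset.sum_subset
    (show ({0, i} : Finset ℕ) ⊆ Finset.range (i + 1) by intro j; simp; omega) fun j hj hj' => ?_,
    Finset.sum_pair (by omega)]
  · simp [add_comm]
  · simp only [Finset.mem_range, Finset.mem_insert, Finset.mem_singleton, not_or] at hj hj'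
    rw [Algebra.smul_def, show ((i.choose j : ℕ) : S) = algebraMap k S (i.choose j : k) by rw [map_natCast],
      mul_comm (x ^ j * y ^ (i - j)), ← mul_assoc, ← map_mul,
      h i (Nat.lt_succ_iff.1 (Finset.mem_range.1 hi)) j (by omega) (by omega), map_zero, zero_mul]

end Groth.Agent.TrigSplit28
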