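import Groth.Agent.Lib.TrigSplit28.Basic
import Mathlib.FieldTheory.Minpoly.Field
import Mathlib.FieldTheory.IsAlgClosed.Basic

/-!
# Splitting off a skew primitive element

If a finitely generated Hopf algebra `Q` contains a group algebra `k[M]` and a skew primitive
element `y`, then for a suitable constant `c` the ideal of `y - c (χ - 1)` still meets `k[M]`
trivially.
-/

set_option autoImplicit false
set_option linter.style.haveILetI false

universe u

open TensorProduct WithConv Polynomial

noncomputable section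

namespace Groth.Agent.TrigSplit28

variable {k : Type u} [Field k] {Q : Type u} [CommRing Q] [HopfAlgebra k Q] {M : Type u} [CommGroup M]

/-- The coaction of the kernel on the coordinate ring. -/
def δ (J : Ideal Q) : Q →ₐ[k] Q ⊗[k] (Q ⧸ J) :=
  (Algebra.TensorProduct.map (AlgHom.id k Q) (Ideal.Quotient.mkₐ k J)).comp (Bialgebra.comulAlgHom k Q)

theorem δ_apply (J : Ideal Q) (b : Q) :
    δ J b = (Ideal.Quotient.mkₐ k J).toLinearMap.lTensor Q (CoalgebraStruct.comul (R := k) b) := rfl

variable (ι : MonoidAlgebra k M →ₐc[k] Q)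

theorem mk_ι (b : MonoidAlgebra k M) :
    Ideal.Quotient.mkₐ k (Ideal.map (ι : MonoidAlgebra k M →+* Q) (RingHom.ker (Bialgebra.counitAlgHom k (MonoidAlgebra k M)))) (ι b) =
      algebraMap k _ (CoalgebraStruct.counit (R := k) b) := by
  have h : b - algebraMap k _ (CoalgebraStruct.counit (R := k) b) ∈
      RingHom.ker (Bialgebra.counitAlgHom k (MonoidAlgebra k M)) := by
    simp [RingHom.mem_ker]
  have h2 := Ideal.Quotient.eq_zero_iff_mem.2 (Ideal.mem_map_of_mem (ι : MonoidAlgebra k M →+* Q) h)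
  rw [show (ι : MonoidAlgebra k M →+* Q) (b - algebraMap k _ (CoalgebraStruct.counit (R := k) b)) =
    ι b - algebraMap k Q (CoalgebraStruct.counit (R := k) b) from
      (map_sub ι b _).trans (congrArg _ (AlgHomClass.commutes ι _)), map_sub, sub_eq_zero] at h2
  exact h2

theorem δ_ι (b : MonoidAlgebra k M) :
    δ (Ideal.map (ι : MonoidAlgebra k M →+* Q) (RingHom.ker (Bialgebra.counitAlgHom k (MonoidAlgebra k M)))) (ι b) =
      ι b ⊗ₜ[k] 1 := by
  rw [δ_apply, map_comul]
  have : ∀ w : MonoidAlgebra k M ⊗[k] MonoidAlgebra k M,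
      (Ideal.Quotient.mkₐ k (Ideal.map (ι : MonoidAlgebra k M →+* Q)
          (RingHom.ker (Bialgebra.counitAlgHom k (MonoidAlgebra k M))))).toLinearMap.lTensor Q
        (TensorProduct.map (ι : MonoidAlgebra k M →ₗ[k] Q) (ι : MonoidAlgebra k M →ₗ[k] Q) w) =
      ι (TensorProduct.rid k _ ((CoalgebraStruct.counit (R := k)).lTensor _ w)) ⊗ₜ[k] 1 := by
    intro w
    induction w with
    | zero => simp
    | add p q hp hq => simp only [map_add, hp, hq, TensorProduct.add_tmul]
    | tmul p q =>
      simp only [TensorProduct.map_tmul, LinearMap.lTensor_tmul, AlgHom.toLinearMap_apply, TensorProduct.rid_tmul, map_smul]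
      rw [show (ι : MonoidAlgebra k M →ₗ[k] Q) q = ι q from rfl, mk_ι, Algebra.algebraMap_eq_smul_one,
        TensorProduct.tmul_smul, TensorProduct.smul_tmul']
      rfl
  rw [this, Coalgebra.lTensor_counit_comul, TensorProduct.rid_tmul, one_smul]

theorem coeff_eq_zero_of_sum_tmul {V : Type u} [AddCommGroup V] [Module k V] {W : Type u} [AddCommGroup W]
    [Module k W] (N : ℕ) (w : ℕ → W)
    (hlin : ∀ g : ℕ → k, ∑ i ∈ Finset.range N, g i • w i = 0 → ∀ i < N, g i = 0) (v : ℕ → V)
    (h : ∑ i ∈ Finset.range N, v i ⊗ₜ[k] w i = 0) : ∀ i < N, v i = 0 := by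
  intro i hi
  refine (Module.forall_dual_apply_eq_zero_iff k (v i)).1 fun φ => hlin (fun j => φ (v j)) ?_ i hi
  have := congrArg (fun z => TensorProduct.lid k W (φ.rTensor W z)) h
  simpa [map_sum] using this

set_option maxHeartbeats 4000000 in
/-- Adding a suitable multiple of `χ - 1` to a skew primitive element splits it off the group algebra. -/
theorem exists_coeff [IsAlgClosed k] [Algebra.FiniteType k Q] [Group.FG M] (hι : Function.Injective ι)
    (m₀ : M) (y : Q)
    (hy : CoalgebraStruct.comul (R := k) y = ι (MonoidAlgebra.single m₀ 1) ⊗ₜ[k] y + y ⊗ₜ[k] 1) :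
    ∃ c : k, ∀ b, ι b ∈ Ideal.span {y - algebraMap k Q c * (ι (MonoidAlgebra.single m₀ 1) - 1)} → b = 0 := by
  classical
  set χ₀ : MonoidAlgebra k M := MonoidAlgebra.single m₀ 1 with hχ₀
  set χ := ι χ₀ with hχ
  have hχg : IsGroupLikeElem k χ₀ := MonoidAlgebra.isGroupLikeElem_single_one m₀
  have hχu : IsUnit χ := (hχg.map ι).isUnit
  set J := Ideal.map (ι : MonoidAlgebra k M →+* Q) (RingHom.ker (Bialgebra.counitAlgHom k (MonoidAlgebra k M))) with hJ
  haveI : J.IsHopfIdeal k := MultTypeLib.isHopfIdeal_map_aug ι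
  let p : Q →ₐ[k] Q ⧸ J := Ideal.Quotient.mkₐ k J
  set yb := p y with hyb
  have hpι : ∀ b, p (ι b) = algebraMap k _ (CoalgebraStruct.counit (R := k) b) := mk_ι ι
  have hpχ : p χ = 1 := by rw [hχ, hpι, hχg.counit_eq_one, map_one]
  have hεQ : CoalgebraStruct.counit (R := k) χ = 1 := (hχg.map ι).counit_eq_one
  have hεy : CoalgebraStruct.counit (R := k) y = 0 := by
    have h := congrArg (TensorProduct.lid k Q) (Coalgebra.rTensor_counit_comul (R := k) y)
    rw [hy, map_add, map_add, LinearMap.rTensor_tmul, LinearMap.rTensor_tmul, TensorProduct.lid_tmul,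
      TensorProduct.lid_tmul, TensorProduct.lid_tmul, hεQ, one_smul, add_eq_left] at h
    have h2 := congrArg (CoalgebraStruct.counit (R := k)) h
    rwa [map_smul, Bialgebra.counit_one, smul_eq_mul, mul_one, map_zero] at h2
  have hS : HopfAlgebra.antipode k χ * y + HopfAlgebra.antipode k y = 0 := by
    have h := HopfAlgebra.mul_antipode_rTensor_comul_apply (R := k) y
    rw [hy, map_add, map_add, LinearMap.rTensor_tmul, LinearMap.rTensor_tmul, LinearMap.mul'_apply,
      LinearMap.mul'_apply, hεy, map_zero, mul_one] at h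
    exact h
  have hδy : δ J y = χ ⊗ₜ[k] yb + y ⊗ₜ[k] 1 := by
    rw [δ_apply, hy, map_add, LinearMap.lTensor_tmul, LinearMap.lTensor_tmul]
    simp only [AlgHom.toLinearMap_apply, map_one]
    rfl
  -- polynomials in `y` are as independent as polynomials in `yb`
  have hindep : ∀ N : ℕ, (∀ g : ℕ → k, ∑ i ∈ Finset.range N, g i • yb ^ i = 0 → ∀ i < N, g i = 0) →
      ∀ c : ℕ → MonoidAlgebra k M, ∑ i ∈ Finset.range N, ι (c i) * y ^ i = 0 → ∀ i < N, c i = 0 := by
    intro N
    induction N with
    | zero => intro _ _ _ i hi; omega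
    | succ N ih =>
      intro hlin c hc
      let q : ℕ → Q := fun j => ∑ i ∈ Finset.range (N + 1), (i.choose j) • (ι (c i) * χ ^ j * y ^ (i - j))
      have h1 : ∑ j ∈ Finset.range (N + 1), q j ⊗ₜ[k] (yb ^ j) = 0 := by
        simp only [q, TensorProduct.sum_tmul]
        rw [Finset.sum_comm]
        refine Eq.trans ?_ ((congrArg (δ J) hc).trans (map_zero _))
        rw [map_sum]
        refine Finset.sum_congr rfl fun i hi => ?_
        rw [map_mul, map_pow, δ_ι, hδy, add_pow, Finset.mul_sum]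
        refine (Finset.sum_subset (Finset.range_mono (Finset.mem_range.1 hi))
          fun j hj hj' => ?_).symm.trans (Finset.sum_congr rfl fun j _ => ?_)
        · rw [Nat.choose_eq_zero_of_lt (by simp at hj'; omega), zero_smul, TensorProduct.zero_tmul]
        · rw [Algebra.TensorProduct.tmul_pow, Algebra.TensorProduct.tmul_pow, one_pow,
            Algebra.TensorProduct.tmul_mul_tmul, mul_one, ← nsmul_eq_mul', mul_smul_comm,
            Algebra.TensorProduct.tmul_mul_tmul, one_mul, ← TensorProduct.smul_tmul', mul_assoc]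
      have hq := coeff_eq_zero_of_sum_tmul _ _ hlin _ h1 N (Nat.lt_succ_self N)
      have hN : c N = 0 := by
        refine hι ?_
        rw [map_zero]
        have : q N = ι (c N) * χ ^ N := by
          simp only [q]
          rw [Finset.sum_eq_single N (fun i hi hne => by
            rw [Nat.choose_eq_zero_of_lt (by simp at hi; omega), zero_smul]) (by simp)]
          simp
        exact (hχu.pow N).mul_left_eq_zero.1 (this ▸ hq)
      intro i hi
      rcases Nat.lt_succ_iff_lt_or_eq.1 hi with h | rfl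
      · refine ih (fun g hg j hj => ?_) c ?_ i h
        · have h2 := hlin (fun j => if j < N then g j else 0) ?_ j (Nat.lt_succ_of_lt hj)
          · simpa [hj] using h2
          · rw [Finset.sum_range_succ, if_neg (lt_irrefl N), zero_smul, add_zero, ← hg]
            exact Finset.sum_congr rfl fun j hj => by rw [if_pos (Finset.mem_range.1 hj)]
        · rwa [Finset.sum_range_succ, hN, map_zero, zero_mul, add_zero] at hc
      · exact hN
  have heval : ∀ (f : (MonoidAlgebra k M)[X]) (N : ℕ), f.natDegree < N →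
      f.eval₂ (ι : MonoidAlgebra k M →+* Q) y = ∑ i ∈ Finset.range N, ι (f.coeff i) * y ^ i :=
    fun f N hN => Polynomial.eval₂_eq_sum_range' _ hN y
  -- it suffices to find a point over the relations of `y`
  suffices h : ∃ c : k, ∀ f : (MonoidAlgebra k M)[X], f.eval₂ (ι : MonoidAlgebra k M →+* Q) y = 0 →
      f.eval (algebraMap k _ c * (χ₀ - 1)) = 0 by
    obtain ⟨c, hc⟩ := h
    refine ⟨c, fun b hb => ?_⟩
    let R : Subalgebra k Q := Algebra.adjoin k (insert y (Set.range ι))
    have hιR : ∀ b, ι b ∈ R := fun b => Algebra.subset_adjoin (Set.mem_insert_of_mem _ ⟨b, rfl⟩)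
    have hyR : y ∈ R := Algebra.subset_adjoin (Set.mem_insert _ _)
    have hR : HopfFlat.IsSub R := by
      refine ⟨fun r hr => ?_, fun r hr => ?_⟩
      · suffices R ≤ (Algebra.TensorProduct.map R.val R.val).range.comap (Bialgebra.comulAlgHom k Q) from this hr
        refine Algebra.adjoin_le ?_
        rintro x (hx | ⟨b, rfl⟩)
        · rw [hx]
          exact ⟨(⟨χ, hιR _⟩ : R) ⊗ₜ[k] (⟨y, hyR⟩ : R) + (⟨y, hyR⟩ : R) ⊗ₜ[k] 1, by simp [hy]⟩
        · let j : MonoidAlgebra k M →ₐ[k] R := (ι : MonoidAlgebra k M →ₐ[k] Q).codRestrict R hιR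
          refine ⟨Algebra.TensorProduct.map j j (CoalgebraStruct.comul (R := k) b), ?_⟩
          show _ = CoalgebraStruct.comul (R := k) (ι b)
          rw [map_comul]
          induction CoalgebraStruct.comul (R := k) b with
          | zero => simp
          | add p q hp hq => simp only [map_add, hp, hq]
          | tmul p q => rfl
      · suffices R ≤ R.comap (HopfAlgebra.antipodeAlgHom k Q) from this hr
        refine Algebra.adjoin_le ?_
        rintro x (hx | ⟨b, rfl⟩)
        · rw [hx]
          show HopfAlgebra.antipode k y ∈ R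
          rw [eq_neg_of_add_eq_zero_right hS, hχ, ← HopfFF23.map_antipode]
          exact neg_mem (mul_mem (hιR _) hyR)
        · show HopfAlgebra.antipode k (ι b) ∈ R
          rw [← HopfFF23.map_antipode]
          exact hιR _
    haveI := hR.faithfullyFlat
    have hex : ∀ r ∈ R, ∃ f : (MonoidAlgebra k M)[X], f.eval₂ (ι : MonoidAlgebra k M →+* Q) y = r := by
      intro r hr
      induction hr using Algebra.adjoin_induction with
      | mem r hr =>
        rcases hr with rfl | ⟨b, rfl⟩
        · exact ⟨X, eval₂_X _ _⟩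
        · exact ⟨C b, eval₂_C _ _⟩
      | algebraMap r => exact ⟨C (algebraMap k _ r), by rw [eval₂_C]; exact AlgHomClass.commutes ι r⟩
      | add _ _ _ _ ha hb =>
        obtain ⟨f, rfl⟩ := ha
        obtain ⟨g, rfl⟩ := hb
        exact ⟨f + g, eval₂_add _ _⟩
      | mul _ _ _ _ ha hb =>
        obtain ⟨f, rfl⟩ := ha
        obtain ⟨g, rfl⟩ := hb
        exact ⟨f * g, eval₂_mul _ _⟩
    let zR : R := ⟨y - algebraMap k Q c * (χ - 1),
      sub_mem hyR (mul_mem (R.algebraMap_mem c) (sub_mem (hιR _) (one_mem _)))⟩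
    have h1 : (⟨ι b, hιR b⟩ : R) ∈ Ideal.span {zR} := by
      rw [← Ideal.comap_map_eq_self_of_faithfullyFlat (B := Q) (Ideal.span {zR}), Ideal.mem_comap, Ideal.map_span,
        Set.image_singleton]
      exact hb
    obtain ⟨r, hr⟩ := Ideal.mem_span_singleton'.1 h1
    obtain ⟨f, hf⟩ := hex r r.2
    have h2 : (r : Q) * (y - algebraMap k Q c * (χ - 1)) = ι b := congrArg Subtype.val hr
    have h3 := hc (C b - f * (X - C (algebraMap k _ c * (χ₀ - 1)))) (by
      rw [eval₂_sub, eval₂_mul, eval₂_sub, eval₂_C, eval₂_C, eval₂_X, hf, map_mul, map_sub, map_one,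
        show (ι : MonoidAlgebra k M →+* Q) (algebraMap k _ c) = algebraMap k Q c from AlgHomClass.commutes ι c,
        show (ι : MonoidAlgebra k M →+* Q) χ₀ = χ from rfl, h2]
      exact sub_self _)
    simpa using h3
  haveI : Nontrivial (Q ⧸ J) := ⟨⟨1, 0, fun h => one_ne_zero (α := k) (by
    simpa using congrArg (Bialgebra.counitAlgHom k (Q ⧸ J)) h)⟩⟩
  by_cases hint : IsIntegral k yb
  swap
  · refine ⟨0, fun f hf => ?_⟩
    suffices f = 0 by rw [this, eval_zero]
    ext1 i
    rw [coeff_zero]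
    by_cases hi : i < f.natDegree + 1
    swap
    · exact coeff_eq_zero_of_natDegree_lt (by omega)
    refine hindep (f.natDegree + 1) (fun g hg j hj => ?_) f.coeff
      ((heval f _ (Nat.lt_succ_self _)).symm.trans hf) i hi
    have h1 : Polynomial.aeval yb (∑ l ∈ Finset.range (f.natDegree + 1), C (g l) * X ^ l) = 0 := by
      simpa [map_sum, Algebra.smul_def] using hg
    by_contra hne
    refine hint (isAlgebraic_iff_isIntegral.1 ⟨_, fun h0 => hne ?_, h1⟩)
    have := congrArg (fun q => Polynomial.coeff q j) h0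
    simpa [finsetSum_coeff, coeff_C_mul, coeff_X_pow, hj] using this
  set P := minpoly k yb with hP
  set n := P.natDegree with hn
  let a : ℕ → k := P.coeff
  have hn0 : 0 < n := minpoly.natDegree_pos hint
  have han : a n = 1 := (minpoly.monic hint).coeff_natDegree
  have hPy : ∑ i ∈ Finset.range (n + 1), a i • yb ^ i = 0 :=
    (Polynomial.aeval_eq_sum_range (p := P) yb).symm.trans (minpoly.aeval k yb)
  have ha0 : a 0 = 0 := by
    have hεyb : Bialgebra.counitAlgHom k (Q ⧸ J) yb = 0 := hεy
    have h := congrArg (Bialgebra.counitAlgHom k (Q ⧸ J)) hPy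
    simp only [map_sum, map_smul, map_pow, hεyb, map_zero, smul_eq_mul] at h
    rw [Finset.sum_eq_single 0 (fun i _ hi => by rw [zero_pow hi, mul_zero]) (by simp)] at h
    simpa using h
  have hli : LinearIndependent k fun i : Fin n => yb ^ (i : ℕ) := linearIndependent_pow yb
  have hlin : ∀ g : ℕ → k, ∑ i ∈ Finset.range n, g i • yb ^ i = 0 → ∀ i < n, g i = 0 := fun g hg i hi =>
    Fintype.linearIndependent_iff.1 hli (fun j => g j) (by rw [← hg, ← Fin.sum_univ_eq_sum_range]) ⟨i, hi⟩
  obtain ⟨e, he⟩ : ∃ e : ℕ → ((Q ⧸ J) →ₗ[k] k), ∀ i < n, ∀ j < n, e i (yb ^ j) = if j = i then 1 else 0 := by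
    obtain ⟨L, hL⟩ := (Finsupp.linearCombination k fun i : Fin n => yb ^ (i : ℕ)).exists_leftInverse_of_injective
      (LinearMap.ker_eq_bot.2 hli.finsuppLinearCombination_injective)
    refine ⟨fun i => if h : i < n then (Finsupp.lapply ⟨i, h⟩).comp L else 0, fun i hi j hj => ?_⟩
    have h1 := LinearMap.congr_fun hL (Finsupp.single ⟨j, hj⟩ 1)
    rw [LinearMap.comp_apply, Finsupp.linearCombination_single, one_smul, LinearMap.id_apply] at h1
    simp [dif_pos hi, h1, Finsupp.single_apply]
  have he_top : ∀ i < n, e i (yb ^ n) = - a i := by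
    intro i hi
    have h := congrArg (e i) hPy
    rw [map_zero, map_sum, Finset.sum_range_succ, Finset.sum_eq_single i (fun j hj hne => by
      rw [map_smul, he i hi j (Finset.mem_range.1 hj), if_neg hne, smul_zero]) (by simp [hi])] at h
    rw [map_smul, map_smul, he i hi i hi, if_pos rfl, han, one_smul, smul_eq_mul, mul_one] at h
    exact eq_neg_of_add_eq_zero_right h
  -- additivity
  have hbin : ∀ i ≤ n, ∀ j, 0 < j → j < i → a i * (i.choose j : k) = 0 := by
    intro i hi j hj0 hji
    let Δ := Bialgebra.comulAlgHom k (Q ⧸ J)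
    have hΔyb : Δ yb = yb ⊗ₜ[k] 1 + 1 ⊗ₜ[k] yb := by
      show CoalgebraStruct.comul (R := k) (Ideal.Quotient.mk J y) = _
      rw [show Ideal.Quotient.mk J y = (Bialgebra.Quotient.mkBialgHom (R := k) J) y from rfl,
        ← CoalgHomClass.map_comp_comul_apply, hy, map_add, TensorProduct.map_tmul, TensorProduct.map_tmul]
      show p χ ⊗ₜ[k] p y + p y ⊗ₜ[k] p 1 = _
      rw [hpχ, map_one, add_comm]
    have h := congrArg Δ hPy
    rw [map_zero, map_sum] at h
    simp only [map_smul, map_pow, hΔyb, add_pow, Algebra.TensorProduct.tmul_pow, one_pow,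
      Algebra.TensorProduct.tmul_mul_tmul, mul_one, one_mul] at h
    let F := (TensorProduct.lid k k).toLinearMap ∘ₗ TensorProduct.map (e j) (e (i - j))
    have h' := congrArg F h
    rw [map_zero, map_sum] at h'
    have hterm : ∀ i' ≤ n, ∀ j' ≤ i', e j (yb ^ j') * e (i - j) (yb ^ (i' - j')) =
        if i' = i ∧ j' = j then 1 else 0 := by
      intro i' hi' j' hj'
      rcases lt_or_eq_of_le (hj'.trans hi') with hjn | hjn
      · rw [he j (by omega) j' hjn]
        split_ifs with h1 h2 h2
        · subst h1; rw [he (i - j') (by omega) (i' - j') (by omega)]; simp [h2.1]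
        · subst h1
          rcases lt_or_eq_of_le (show i' - j' ≤ n by omega) with hl | hl
          · rw [he (i - j') (by omega) _ hl, if_neg (by omega), mul_zero]
          · omega
        · exact absurd h2.2 h1
        · rw [zero_mul]
      · obtain rfl : i' = n := by omega
        rw [hjn, Nat.sub_self, he (i - j) (by omega) 0 hn0, if_neg (by omega), mul_zero, if_neg (by omega)]
    rw [Finset.sum_eq_single i ?_ ?_, map_smul, map_sum, Finset.sum_eq_single j ?_ ?_] at h'
    · rw [mul_comm (_ ⊗ₜ[k] _) ((i.choose j : ℕ) : (Q ⧸ J) ⊗[k] (Q ⧸ J)), ← nsmul_eq_mul, map_nsmul] at h'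
      simp only [F, LinearMap.comp_apply, TensorProduct.map_tmul, LinearEquiv.coe_coe, TensorProduct.lid_tmul,
        smul_eq_mul] at h'
      rwa [hterm i hi j hji.le, if_pos ⟨rfl, rfl⟩, nsmul_eq_mul, mul_one] at h'
    · intro j' hj' hne
      rw [mul_comm (_ ⊗ₜ[k] _) ((i.choose j' : ℕ) : (Q ⧸ J) ⊗[k] (Q ⧸ J)), ← nsmul_eq_mul, map_nsmul]
      simp only [F, LinearMap.comp_apply, TensorProduct.map_tmul, LinearEquiv.coe_coe, TensorProduct.lid_tmul,
        smul_eq_mul]
      rw [hterm i hi j' (Nat.lt_succ_iff.1 (Finset.mem_range.1 hj')), if_neg (by simp [hne]), smul_zero]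
    · intro hnot; exact absurd (Finset.mem_range.2 (by omega)) hnot
    · intro i' hi' hne
      rw [map_smul, map_sum, Finset.sum_eq_zero, smul_zero]
      intro j' hj'
      rw [mul_comm (_ ⊗ₜ[k] _) ((i'.choose j' : ℕ) : (Q ⧸ J) ⊗[k] (Q ⧸ J)), ← nsmul_eq_mul, map_nsmul]
      simp only [F, LinearMap.comp_apply, TensorProduct.map_tmul, LinearEquiv.coe_coe, TensorProduct.lid_tmul,
        smul_eq_mul]
      rw [hterm i' (Nat.lt_succ_iff.1 (Finset.mem_range.1 hi')) j' (Nat.lt_succ_iff.1 (Finset.mem_range.1 hj')),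
        if_neg (by simp [hne]), smul_zero]
    · intro hnot; exact absurd (Finset.mem_range.2 (by omega)) hnot
  -- homogeneity, from conjugation
  have hhom : ∀ i ≤ n, a i = 0 ∨ χ ^ i = χ ^ n := by
    intro i hi
    rcases eq_or_lt_of_le hi with rfl | hin
    · exact Or.inr rfl
    let iR : Q →ₐ[k] (Q ⧸ J) ⊗[k] Q := Algebra.TensorProduct.includeRight
    let iL : Q →ₐ[k] (Q ⧸ J) ⊗[k] Q := (Algebra.TensorProduct.includeLeft).comp p
    let F : WithConv (Q →ₐ[k] (Q ⧸ J) ⊗[k] Q) := toConv (iR.comp (HopfAlgebra.antipodeAlgHom k Q)) * toConv iL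
    let φ : Q →ₐ[k] (Q ⧸ J) ⊗[k] Q := (F * toConv iR).ofConv
    have hmulχ : ∀ f g : WithConv (Q →ₐ[k] (Q ⧸ J) ⊗[k] Q), (f * g) χ = f χ * g χ := fun f g => by
      rw [AlgHom.convMul_apply, (hχg.map ι).comul_eq_tmul_self, Algebra.TensorProduct.lift_tmul]
    have hmuly : ∀ f g : WithConv (Q →ₐ[k] (Q ⧸ J) ⊗[k] Q), (f * g) y = f χ * g y + f y := fun f g => by
      rw [AlgHom.convMul_apply, hy, map_add, Algebra.TensorProduct.lift_tmul, Algebra.TensorProduct.lift_tmul,
        map_one, mul_one]
    have hJφ : J ≤ RingHom.ker φ := by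
      refine Ideal.map_le_iff_le_comap.2 ?_
      have heq : φ.comp (ι : MonoidAlgebra k M →ₐ[k] Q) =
          (Algebra.ofId k _).comp (Bialgebra.counitAlgHom k (MonoidAlgebra k M)) := by
        refine MonoidAlgebra.algHom_ext (fun m => ?_) ?_
        · have hm := (MonoidAlgebra.isGroupLikeElem_single_one (R := k) m).map ι
          show (F * toConv iR) (ι (MonoidAlgebra.single m 1)) = algebraMap k _ (CoalgebraStruct.counit (R := k) (MonoidAlgebra.single m (1 : k)))
          rw [AlgHom.convMul_apply, hm.comul_eq_tmul_self, Algebra.TensorProduct.lift_tmul, counit_single, map_one]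
          show (toConv (iR.comp (HopfAlgebra.antipodeAlgHom k Q)) * toConv iL) (ι (MonoidAlgebra.single m 1)) * iR _ = 1
          rw [AlgHom.convMul_apply, hm.comul_eq_tmul_self, Algebra.TensorProduct.lift_tmul]
          show ((1 : Q ⧸ J) ⊗ₜ[k] HopfAlgebra.antipode k (ι (MonoidAlgebra.single m 1))) *
            (p (ι (MonoidAlgebra.single m 1)) ⊗ₜ[k] (1 : Q)) * ((1 : Q ⧸ J) ⊗ₜ[k] ι (MonoidAlgebra.single m 1)) = 1
          rw [hpι, counit_single, map_one, Algebra.TensorProduct.tmul_mul_tmul, Algebra.TensorProduct.tmul_mul_tmul,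
            one_mul, mul_one, mul_one, hm.antipode_mul_cancel]
          rfl
        · exact Subsingleton.elim _ _
      intro b hb
      show φ (ι b) = 0
      refine (AlgHom.congr_fun heq b).trans ?_
      show algebraMap k ((Q ⧸ J) ⊗[k] Q) (Bialgebra.counitAlgHom k (MonoidAlgebra k M) b) = 0
      rw [show Bialgebra.counitAlgHom k (MonoidAlgebra k M) b = 0 from hb, map_zero]
    let φ' : (Q ⧸ J) →ₐ[k] (Q ⧸ J) ⊗[k] Q := Ideal.Quotient.liftₐ J φ fun x hx => hJφ hx
    have hφy : φ y = yb ⊗ₜ[k] HopfAlgebra.antipode k χ := by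
      show (F * toConv iR) y = _
      rw [hmuly]
      show (toConv (iR.comp (HopfAlgebra.antipodeAlgHom k Q)) * toConv iL) χ * iR y +
        (toConv (iR.comp (HopfAlgebra.antipodeAlgHom k Q)) * toConv iL) y = _
      rw [hmuly, hmulχ]
      show ((1 : Q ⧸ J) ⊗ₜ[k] HopfAlgebra.antipode k χ) * (p χ ⊗ₜ[k] (1 : Q)) * ((1 : Q ⧸ J) ⊗ₜ[k] y) +
        (((1 : Q ⧸ J) ⊗ₜ[k] HopfAlgebra.antipode k χ) * (yb ⊗ₜ[k] (1 : Q)) + (1 : Q ⧸ J) ⊗ₜ[k] HopfAlgebra.antipode k y) = _
      simp only [hpχ, Algebra.TensorProduct.tmul_mul_tmul, one_mul, mul_one]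
      rw [← add_assoc, add_right_comm, ← TensorProduct.tmul_add, hS, TensorProduct.tmul_zero, zero_add]
    have h0 := congrArg φ' hPy
    rw [map_zero, map_sum] at h0
    simp only [map_smul, map_pow, show φ' yb = yb ⊗ₜ[k] HopfAlgebra.antipode k χ from hφy,
      Algebra.TensorProduct.tmul_pow] at h0
    have h' := congrArg (fun z => TensorProduct.lid k Q ((e i).rTensor Q z)) h0
    simp only [map_sum, map_smul, LinearMap.rTensor_tmul, TensorProduct.lid_tmul, map_zero] at h'
    rw [Finset.sum_range_succ, Finset.sum_eq_single i (fun j hj hne => by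
      rw [he i hin j (Finset.mem_range.1 hj), if_neg hne, zero_smul, smul_zero]) (by simp [hin]),
      he i hin i hin, if_pos rfl, one_smul, he_top i hin, han, one_smul, neg_smul, ← sub_eq_add_neg, ← smul_sub] at h'
    rcases smul_eq_zero.1 h' with h1 | h1
    · exact Or.inl h1
    · refine Or.inr ?_
      have hu : HopfAlgebra.antipode k χ * χ = 1 := (hχg.map ι).antipode_mul_cancel
      set s := HopfAlgebra.antipode k χ
      calc χ ^ i = (s * χ) ^ n * χ ^ i := by rw [hu, one_pow, one_mul]
        _ = s ^ n * χ ^ i * χ ^ n := by ring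
        _ = (s * χ) ^ i * χ ^ n := by rw [← sub_eq_zero.1 h1]; ring
        _ = χ ^ n := by rw [hu, one_pow, one_mul]
  have hhomB : ∀ i ≤ n, a i = 0 ∨ χ₀ ^ i = χ₀ ^ n := fun i hi =>
    (hhom i hi).imp id fun h => hι (by rw [map_pow, map_pow]; exact h)
  -- the value of the polynomial at `y` lies in the group algebra
  set zQ := ∑ i ∈ Finset.range (n + 1), a i • y ^ i with hzQ
  have hadd {S : Type u} [CommRing S] [Algebra k S] (u v : S) :=
    additive_of_choose (S := S) a ha0 hbin u v
  obtain ⟨z₀, hz₀⟩ : zQ ∈ (ι : MonoidAlgebra k M →ₐ[k] Q).range := by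
    refine Unip23.mem_range_of_coinvariant ι J hJ.le ?_
    rw [← δ_apply, hzQ, map_sum]
    simp only [map_smul, map_pow, hδy]
    rw [hadd, Finset.sum_congr rfl (fun i hi => show a i • (χ ⊗ₜ[k] yb) ^ i = (χ ^ n) ⊗ₜ[k] (a i • yb ^ i) by
        rw [Algebra.TensorProduct.tmul_pow, TensorProduct.tmul_smul]
        rcases hhom i (Nat.lt_succ_iff.1 (Finset.mem_range.1 hi)) with h | h
        · rw [h, zero_smul, zero_smul]
        · rw [h]),
      ← TensorProduct.tmul_sum, hPy, TensorProduct.tmul_zero, zero_add, TensorProduct.sum_tmul]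
    simp only [Algebra.TensorProduct.tmul_pow, one_pow, TensorProduct.smul_tmul']
  have hz₀' : ι z₀ = zQ := hz₀
  obtain ⟨b, hb⟩ : ∃ b : k, z₀ = b • (χ₀ ^ n - 1) := by
    rw [hχ₀, MonoidAlgebra.single_pow, one_pow]
    refine skewPrim_groupAlgebra _ _ ?_
    refine TensorProduct.map_injective_of_flat_flat (ι : MonoidAlgebra k M →ₗ[k] Q) (ι : MonoidAlgebra k M →ₗ[k] Q)
      hι hι ?_
    rw [← map_comul, hz₀', map_add, TensorProduct.map_tmul, TensorProduct.map_tmul]
    show _ = ι (MonoidAlgebra.single (m₀ ^ n) 1) ⊗ₜ[k] ι z₀ + ι z₀ ⊗ₜ[k] ι 1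
    rw [hz₀', map_one, show MonoidAlgebra.single (m₀ ^ n) (1 : k) = χ₀ ^ n by
      rw [hχ₀, MonoidAlgebra.single_pow, one_pow], map_pow, ← hχ]
    show Bialgebra.comulAlgHom k Q zQ = _
    rw [hzQ, map_sum]
    simp only [map_smul, map_pow, show Bialgebra.comulAlgHom k Q y = χ ⊗ₜ[k] y + y ⊗ₜ[k] 1 from hy]
    rw [hadd, Finset.sum_congr rfl (fun i hi => show a i • (χ ⊗ₜ[k] y) ^ i = (χ ^ n) ⊗ₜ[k] (a i • y ^ i) by
        rw [Algebra.TensorProduct.tmul_pow, TensorProduct.tmul_smul]
        rcases hhom i (Nat.lt_succ_iff.1 (Finset.mem_range.1 hi)) with h | h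
        · rw [h, zero_smul, zero_smul]
        · rw [h]),
      ← TensorProduct.tmul_sum, TensorProduct.sum_tmul]
    simp only [Algebra.TensorProduct.tmul_pow, one_pow, TensorProduct.smul_tmul']
  obtain ⟨c, hc⟩ := IsAlgClosed.exists_root (P - C b) (by
    rw [degree_sub_C (by rw [degree_eq_natDegree (minpoly.ne_zero hint)]; exact_mod_cast hn0)]
    rw [degree_eq_natDegree (minpoly.ne_zero hint)]
    exact_mod_cast hn0.ne')
  have hPc : ∑ i ∈ Finset.range (n + 1), a i * c ^ i = b := by
    rw [IsRoot, eval_sub, eval_C, sub_eq_zero] at hc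
    rw [← hc, eval_eq_sum_range]
  refine ⟨c, fun f hf => ?_⟩
  set T := P.map (algebraMap k (MonoidAlgebra k M)) - C z₀ with hT
  have hdeg : (P.map (algebraMap k (MonoidAlgebra k M))).natDegree = n := (minpoly.monic hint).natDegree_map _
  have hTm : T.Monic := by
    refine ((minpoly.monic hint).map _).sub_of_left ?_
    refine lt_of_le_of_lt degree_C_le ?_
    rw [degree_eq_natDegree ((minpoly.monic hint).map _).ne_zero, hdeg]
    exact_mod_cast hn0
  have hTdeg : T.natDegree = n := by rw [hT, natDegree_sub_C, hdeg]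
  have hTy : T.eval₂ (ι : MonoidAlgebra k M →+* Q) y = 0 := by
    rw [hT, eval₂_sub, eval₂_C, eval₂_map, sub_eq_zero]
    refine Eq.trans ?_ hz₀'.symm
    rw [show (ι : MonoidAlgebra k M →+* Q).comp (algebraMap k (MonoidAlgebra k M)) = algebraMap k Q from
      RingHom.ext fun r => AlgHomClass.commutes ι r]
    exact Polynomial.aeval_eq_sum_range (p := P) y
  have hr : f %ₘ T = 0 := by
    have h1 : (f %ₘ T).eval₂ (ι : MonoidAlgebra k M →+* Q) y = 0 := by
      have h2 := congrArg (fun g => eval₂ (ι : MonoidAlgebra k M →+* Q) y g) (modByMonic_add_div f T)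
      simpa [eval₂_add, eval₂_mul, hTy, hf] using h2
    have hlt : (f %ₘ T).natDegree < n := hTdeg ▸ natDegree_modByMonic_lt f hTm (by
      intro h
      rw [h, natDegree_one] at hTdeg
      omega)
    ext1 i
    rw [coeff_zero]
    by_cases hi : i < n
    · exact hindep n hlin _ ((heval _ n hlt).symm.trans h1) i hi
    · exact coeff_eq_zero_of_natDegree_lt (by omega)
  have hTe : T.eval (algebraMap k _ c * (χ₀ - 1)) = 0 := by
    rw [hT, eval_sub, eval_C, sub_eq_zero, eval_map, ← aeval_def, aeval_eq_sum_range]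
    rw [show algebraMap k (MonoidAlgebra k M) c * (χ₀ - 1) =
      algebraMap k _ c * χ₀ + - algebraMap k _ c by ring]
    rw [hadd, Finset.sum_congr rfl (fun i hi =>
      show a i • (algebraMap k (MonoidAlgebra k M) c * χ₀) ^ i = (a i * c ^ i) • χ₀ ^ n by
        rw [mul_pow, ← map_pow, ← Algebra.smul_def, smul_smul]
        rcases hhomB i (Nat.lt_succ_iff.1 (Finset.mem_range.1 hi)) with h | h
        · rw [h, zero_mul, zero_smul, zero_smul]
        · rw [h]),
      ← Finset.sum_smul, hPc, hb, smul_sub]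
    have hneg := hadd (algebraMap k (MonoidAlgebra k M) c) (- algebraMap k _ c)
    rw [add_neg_cancel, Finset.sum_eq_single 0 (fun i _ hi => by rw [zero_pow hi, smul_zero]) (by simp), ha0,
      zero_smul] at hneg
    rw [eq_neg_of_add_eq_zero_right hneg.symm, sub_eq_add_neg]
    congr 2
    rw [← hPc, Finset.sum_smul]
    refine Finset.sum_congr rfl fun i _ => ?_
    rw [← map_pow, Algebra.algebraMap_eq_smul_one, smul_smul]
  rw [← modByMonic_add_div f T, hr, zero_add, eval_mul, hTe, zero_mul]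

end Groth.Agent.TrigSplit28
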